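import Groth.Agent.Lib.JacCrit.SmoothLocal
import Groth.Agent.Lib.LocalFlat.SmulTop
import Groth.Agent.Lib.LCFin.FibreDepth
import Groth.Agent.H26.RegIdeal
import Mathlib.RingTheory.Smooth.Local
import Mathlib.RingTheory.Smooth.Flat

/-!
A smooth subscheme is regularly immersed exactly where the ambient scheme is smooth.
-/

set_option autoImplicit false
universe u

open IsLocalRing TensorProduct KaehlerDifferential RingTheory.Sequence

namespace Groth.Agent.Lib.NestedSmooth.Local

/-- An essentially finite type local algebra is a quotient of a smooth local algebra. -/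
theorem exists_cover (A B : Type u) [CommRing A] [IsNoetherianRing A] [CommRing B] [IsLocalRing B]
    [Algebra A B] [Algebra.EssFiniteType A B] :
    ∃ (P : Type u) (_ : CommRing P) (_ : Algebra A P) (_ : IsLocalRing P) (_ : IsNoetherianRing P)
      (_ : Algebra.FormallySmooth A P) (_ : Module.Free P (Ω[P⁄A])) (_ : Module.Finite P (Ω[P⁄A]))
      (_ : Module.Flat A P) (π : P →ₐ[A] B), Function.Surjective π ∧ IsLocalHom π.toRingHom := by
  obtain ⟨σ, hσ⟩ := (Algebra.essFiniteType_iff A B).1 ‹_›
  let v : σ → B := Subtype.val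
  let M := MvPolynomial σ A
  let ev : M →ₐ[A] B := MvPolynomial.aeval v
  let Q : Ideal M := (maximalIdeal B).comap ev.toRingHom
  have : Q.IsPrime := Ideal.IsPrime.comap _
  have hu : ∀ y : Q.primeCompl, IsUnit (ev y) := fun y => by
    by_contra h
    exact y.2 ((mem_maximalIdeal _).2 h)
  let π : Localization.AtPrime Q →ₐ[A] B :=
    IsLocalization.liftAlgHom (A := A) (S := Localization.AtPrime Q) hu
  have hπ : ∀ x : M, π (algebraMap M (Localization.AtPrime Q) x) = ev x :=
    fun x => IsLocalization.lift_eq _ x
  have hrange : Algebra.adjoin A (σ : Set B) = ev.range := by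
    rw [← Algebra.adjoin_range_eq_range_aeval, Subtype.range_coe_subtype]
    rfl
  have : Algebra.EssFiniteType M (Localization.AtPrime Q) := .of_isLocalization _ Q.primeCompl
  have : Algebra.EssFiniteType A (Localization.AtPrime Q) := .comp A M _
  have : Algebra.FormallySmooth M (Localization.AtPrime Q) := .of_isLocalization Q.primeCompl
  have : Algebra.FormallySmooth A (Localization.AtPrime Q) := .comp A M _
  have : Module.Free (Localization.AtPrime Q) (Ω[Localization.AtPrime Q⁄A]) :=
    Module.free_of_flat_of_isLocalRing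
  have : Module.Flat M (Localization.AtPrime Q) := IsLocalization.flat _ Q.primeCompl
  refine ⟨Localization.AtPrime Q, inferInstance, inferInstance, inferInstance, inferInstance,
    inferInstance, inferInstance, inferInstance, Module.Flat.trans A M _, π, fun b => ?_, ?_⟩
  · obtain ⟨t, ht, hu', hbt⟩ := hσ b
    rw [hrange] at ht hbt
    obtain ⟨x, hx⟩ := hbt
    obtain ⟨y, rfl⟩ := ht
    have hy : y ∈ Q.primeCompl := fun h => (mem_maximalIdeal _).1 h hu'
    refine ⟨IsLocalization.mk' _ x ⟨y, hy⟩, hu'.mul_right_cancel ?_⟩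
    have h1 := congrArg π (IsLocalization.mk'_spec (Localization.AtPrime Q) x ⟨y, hy⟩)
    rw [map_mul, hπ, hπ] at h1
    exact h1.trans hx
  · refine ⟨fun a ha => ?_⟩
    obtain ⟨x, s, rfl⟩ := IsLocalization.exists_mk'_eq Q.primeCompl a
    rw [IsLocalization.AtPrime.isUnit_mk'_iff _ Q]
    intro hx
    have h1 := congrArg π (IsLocalization.mk'_spec (Localization.AtPrime Q) x s)
    rw [map_mul, hπ, hπ] at h1
    exact (mem_maximalIdeal _).1 hx (h1 ▸ ha.mul (hu s))

/-- Relations among lifts of a regular sequence come from the kernel. -/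
theorem mem_mul_of_regular {P B : Type u} [CommRing P] [CommRing B] (π : P →+* B)
    (hπ : Function.Surjective π) : ∀ (gs : List P), IsWeaklyRegular B (gs.map π) →
      RingHom.ker π ⊓ Ideal.ofList gs ≤ RingHom.ker π * Ideal.ofList gs := by
  intro gs
  induction gs using List.reverseRecOn with
  | nil => intro _ x hx; simpa using hx.2
  | append_singleton gs a ih =>
    intro h x hx
    rw [List.map_append, isWeaklyRegular_append_iff] at h
    obtain ⟨hxJ, hx2⟩ := hx
    rw [Ideal.ofList_append, Ideal.ofList_singleton] at hx2 ⊢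
    obtain ⟨y, hy, z, hz, rfl⟩ := Submodule.mem_sup.1 hx2
    obtain ⟨c, rfl⟩ := Ideal.mem_span_singleton'.1 hz
    have hreg := ((isWeaklyRegular_cons_iff _ _ _).1 h.2).1
    have hm : π c ∈ Ideal.ofList (gs.map π) • (⊤ : Submodule B B) := by
      rw [← Submodule.Quotient.mk_eq_zero]
      refine hreg ?_
      show π a • Submodule.Quotient.mk (π c) = π a • (0 : B ⧸ _)
      rw [smul_zero, ← Submodule.Quotient.mk_smul, Submodule.Quotient.mk_eq_zero, smul_eq_mul,
        smul_eq_mul, Ideal.mul_top, mul_comm, ← map_mul]
      have h1 : π (c * a) = -π y := by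
        have := RingHom.mem_ker.1 hxJ
        rw [map_add] at this
        exact eq_neg_of_add_eq_zero_right this
      rw [h1, ← Ideal.map_ofList]
      exact neg_mem (Ideal.mem_map_of_mem π hy)
    rw [smul_eq_mul, Ideal.mul_top, ← Ideal.map_ofList, Ideal.mem_map_iff_of_surjective π hπ] at hm
    obtain ⟨c₀, hc₀, hc⟩ := hm
    have hj : c - c₀ ∈ RingHom.ker π := by rw [RingHom.mem_ker, map_sub, hc, sub_self]
    have h2 : (c - c₀) * a ∈ RingHom.ker π * (Ideal.ofList gs ⊔ Ideal.span {a}) :=
      Ideal.mul_mem_mul hj (Ideal.mem_sup_right (Ideal.mem_span_singleton_self a))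
    have h3 : y + c₀ * a ∈ RingHom.ker π ⊓ Ideal.ofList gs := by
      refine ⟨?_, add_mem hy (Ideal.mul_mem_right _ _ hc₀)⟩
      have : y + c₀ * a = (y + c * a) - (c - c₀) * a := by ring
      rw [this]
      exact sub_mem hxJ (Ideal.mul_mem_right _ _ hj)
    have : y + c * a = (y + c₀ * a) + (c - c₀) * a := by ring
    rw [this]
    exact add_mem (Ideal.mul_mono_right le_sup_left (ih h.1 h3)) h2

variable (A B C : Type u) [CommRing A] [CommRing B] [CommRing C] [IsLocalRing A] [IsLocalRing B]
  [IsLocalRing C] [IsNoetherianRing A] [IsNoetherianRing B] [Algebra A B] [Algebra A C] [Algebra B C]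
  [IsScalarTower A B C] [IsLocalHom (algebraMap A B)] [Algebra.EssFiniteType A B]

/-- Smoothness of the ambient algebra in terms of a cover. -/
theorem formallySmooth_iff_of_cover [Algebra.FormallySmooth A C]
    (hs : Function.Surjective (algebraMap B C))
    (P : Type u) [CommRing P] [IsLocalRing P] [IsNoetherianRing P] [Algebra A P] [Algebra P B] [Algebra P C]
    [IsScalarTower A P B] [IsScalarTower A P C] [IsScalarTower P B C]
    [Algebra.FormallySmooth A P] [Module.Free P (Ω[P⁄A])] [Module.Finite P (Ω[P⁄A])]
    (hπ : Function.Surjective (algebraMap P B)) :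
    Algebra.FormallySmooth A B ↔ ∀ x ∈ RingHom.ker (algebraMap P B),
      x ∈ maximalIdeal P * RingHom.ker (algebraMap P C) →
        x ∈ maximalIdeal P * RingHom.ker (algebraMap P B) := by
  have hloc : IsLocalHom (algebraMap P B) := IsLocalHom.of_surjective _ hπ
  have hsC : Function.Surjective (algebraMap P C) := by
    rw [IsScalarTower.algebraMap_eq P B C]; exact hs.comp hπ
  have hJK : RingHom.ker (algebraMap P B) ≤ RingHom.ker (algebraMap P C) := fun x hx => by
    rw [RingHom.mem_ker, IsScalarTower.algebraMap_apply P B C, RingHom.mem_ker.1 hx, map_zero]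
  have hk : ∀ (S : Type u) [CommRing S] [Nontrivial S] [Algebra P S],
      Function.Surjective (algebraMap P S) → RingHom.ker (algebraMap P S) ≤ RingHom.ker (residue P) :=
    fun S _ _ _ _ x hx => by
      rw [RingHom.mem_ker, residue_eq_zero_iff]
      exact le_maximalIdeal (RingHom.ker_ne_top _) hx
  let βB : B →+* ResidueField P := RingHom.liftOfSurjective _ hπ ⟨residue P, hk B hπ⟩
  let βC : C →+* ResidueField P := RingHom.liftOfSurjective _ hsC ⟨residue P, hk C hsC⟩
  let _ := βB.toAlgebra
  let _ := βC.toAlgebra
  have : IsScalarTower P B (ResidueField P) := IsScalarTower.of_algebraMap_eq fun x =>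
    (RingHom.liftOfRightInverse_comp_apply (algebraMap P B) _ (Function.rightInverse_surjInv hπ)
      ⟨residue P, hk B hπ⟩ x).symm
  have : IsScalarTower P C (ResidueField P) := IsScalarTower.of_algebraMap_eq fun x =>
    (RingHom.liftOfRightInverse_comp_apply (algebraMap P C) _ (Function.rightInverse_surjInv hsC)
      ⟨residue P, hk C hsC⟩ x).symm
  have h3 : ∀ (S : Type u) [CommRing S] [IsLocalRing S] [Algebra P S] [Algebra S (ResidueField P)]
      [IsScalarTower P S (ResidueField P)], Function.Surjective (algebraMap P S) →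
      maximalIdeal S ≤ RingHom.ker (algebraMap S (ResidueField P)) := fun S _ _ _ _ _ h z hz => by
    obtain ⟨x, rfl⟩ := h z
    have : IsLocalHom (algebraMap P S) := IsLocalHom.of_surjective _ h
    rw [RingHom.mem_ker, ← IsScalarTower.algebraMap_apply]
    exact (residue_eq_zero_iff x).2 fun hu => hz (hu.map _)
  rw [Algebra.FormallySmooth.iff_injective_cotangentComplexBaseChange P (ResidueField P) hπ
    (IsNoetherian.noetherian _) (h3 B hπ)]
  have hCinj := (Algebra.FormallySmooth.iff_injective_cotangentComplexBaseChange (R := A) (S := C) P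
    (ResidueField P) hsC (IsNoetherian.noetherian _) (h3 C hsC)).1 inferInstance
  let i : RingHom.ker (algebraMap P B) →ₗ[P] RingHom.ker (algebraMap P C) := Submodule.inclusion hJK
  have heq : cotangentComplexBaseChange A B P (ResidueField P) =
      cotangentComplexBaseChange A C P (ResidueField P) ∘ₗ i.baseChange (ResidueField P) := by
    refine TensorProduct.AlgebraTensorModule.curry_injective (LinearMap.ext fun a => LinearMap.ext fun b => ?_)
    simp only [AlgebraTensorModule.curry_apply, LinearMap.restrictScalars_comp, TensorProduct.curry_apply,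
      LinearMap.coe_comp, LinearMap.coe_restrictScalars, Function.comp_apply, LinearMap.baseChange_tmul,
      cotangentComplexBaseChange_tmul]
    rfl
  rw [heq, LinearMap.coe_comp, hCinj.of_comp_iff, LinearMap.baseChange_eq_ltensor,
    show Function.Injective (LinearMap.lTensor (ResidueField P) i) ↔
      Function.Injective (LinearMap.lTensor (P ⧸ maximalIdeal P) i) from Iff.rfl,
    LocalFlat.SmulTop.lTensor_quotient_injective_iff]
  have hsm : ∀ (N : Ideal P) (z : N), z ∈ maximalIdeal P • (⊤ : Submodule P N) ↔
      (z : P) ∈ maximalIdeal P * N := fun N z => by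
    have h : N.subtype z ∈ (maximalIdeal P • (⊤ : Submodule P N)).map N.subtype ↔
        z ∈ maximalIdeal P • (⊤ : Submodule P N) :=
      ⟨fun ⟨w, hw, hwz⟩ => N.subtype_injective hwz ▸ hw, Submodule.mem_map_of_mem⟩
    rw [Submodule.map_smul'', Submodule.map_subtype_top] at h
    exact h.symm
  exact ⟨fun h x hx hx' => (hsm _ ⟨x, hx⟩).1 (h ⟨x, hx⟩ ((hsm _ _).2 hx')),
    fun h z hz => (hsm _ z).2 (h _ z.2 ((hsm _ (i z)).1 hz))⟩

theorem formallySmooth_iff [Algebra.FormallySmooth A C] (hs : Function.Surjective (algebraMap B C)) :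
    Algebra.FormallySmooth A B ↔ CInt.IsRegularIdeal (RingHom.ker (algebraMap B C)) := by
  obtain ⟨P, _, _, _, _, _, _, _, hflat, π, hπ, hloc⟩ := exists_cover A B
  let _ := π.toRingHom.toAlgebra
  let _ : Algebra P C := ((algebraMap B C).comp π.toRingHom).toAlgebra
  have : IsScalarTower A P B := IsScalarTower.of_algebraMap_eq fun a => (π.commutes a).symm
  have : IsScalarTower P B C := IsScalarTower.of_algebraMap_eq fun _ => rfl
  have : IsScalarTower A P C := IsScalarTower.of_algebraMap_eq fun a => by
    show algebraMap A C a = algebraMap B C (π (algebraMap A P a))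
    rw [π.commutes, ← IsScalarTower.algebraMap_apply]
  constructor
  · intro hB
    have : Module.Flat A B := Algebra.FormallySmooth.flat_of_algHom_of_isNoetherianRing π hπ
    have : Algebra.EssFiniteType B C :=
      have : Algebra.FiniteType B C := .of_surjective (Algebra.ofId B C) hs
      inferInstance
    have : Algebra.EssFiniteType A C := .comp A B C
    have : IsNoetherianRing C := isNoetherianRing_of_surjective _ _ _ hs
    have hlBC : IsLocalHom (algebraMap B C) := IsLocalHom.of_surjective _ hs
    have : IsLocalHom (algebraMap A C) := by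
      rw [IsScalarTower.algebraMap_eq A B C]; infer_instance
    have : Module.Flat A C :=
      Algebra.FormallySmooth.flat_of_algHom_of_isNoetherianRing ((IsScalarTower.toAlgHom A B C).comp π)
        (hs.comp hπ)
    set I := RingHom.ker (algebraMap B C)
    set J := (maximalIdeal A).map (algebraMap A B)
    have hFB : IsRegularLocalRing (B ⧸ J) :=
      JacCrit.SmoothLocal.isRegularLocalRing_fibre (algebraMap A B) (by
        rw [RingHom.essFiniteType_algebraMap]; infer_instance) (by
        rw [RingHom.formallySmooth_algebraMap]; infer_instance)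
    have hFC : IsRegularLocalRing (C ⧸ (maximalIdeal A).map (algebraMap A C)) :=
      JacCrit.SmoothLocal.isRegularLocalRing_fibre (algebraMap A C) (by
        rw [RingHom.essFiniteType_algebraMap]; infer_instance) (by
        rw [RingHom.formallySmooth_algebraMap]; infer_instance)
    let e : ((B ⧸ J) ⧸ I.map (Ideal.Quotient.mk J)) ≃+* C ⧸ (maximalIdeal A).map (algebraMap A C) :=
      (DoubleQuot.quotQuotEquivQuotSup J I).trans <|
        ((Ideal.quotEquivOfEq (sup_comm J I)).trans (DoubleQuot.quotQuotEquivQuotSup I J).symm).trans <|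
          Ideal.quotientEquiv _ _ (RingHom.quotientKerEquivOfSurjective hs) (by
            rw [Ideal.map_map, Ideal.map_map]
            congr 1
            ext a
            exact IsScalarTower.algebraMap_apply A B C a)
    have hFI : IsRegularLocalRing ((B ⧸ J) ⧸ I.map (Ideal.Quotient.mk J)) :=
      IsRegularLocalRing.of_ringEquiv e.symm
    obtain ⟨rs, hrs, hrsI⟩ := (H26.RegIdeal.isRegularLocalRing_iff (I.map (Ideal.Quotient.mk J))).1 hFB
    have hmem : ∀ r ∈ rs, ∃ f ∈ I, Ideal.Quotient.mk J f = r := fun r hr =>
      (Ideal.mem_map_iff_of_surjective _ Ideal.Quotient.mk_surjective).1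
        (hrsI.le (Ideal.subset_span hr))
    choose f hfI hf using hmem
    let fs := rs.attach.map fun r => f r.1 r.2
    have hfs : fs.map (Ideal.Quotient.mk J) = rs := by
      simp only [fs, List.map_map, Function.comp_def, hf, List.attach_map_subtype_val]
    have hle : Ideal.ofList fs ≤ I := Ideal.span_le.2 fun z hz => by
      obtain ⟨r, -, rfl⟩ := List.mem_map.1 hz
      exact hfI _ _
    have hgen : I = Ideal.ofList fs := by
      refine le_antisymm (Submodule.le_of_le_smul_of_le_jacobson_bot (IsNoetherian.noetherian I)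
        ((IsLocalRing.jacobson_eq_maximalIdeal ⊥ bot_ne_top).ge) ?_) hle
      intro z hz
      have h1 : Ideal.Quotient.mk J z ∈ (Ideal.ofList fs).map (Ideal.Quotient.mk J) := by
        rw [Ideal.map_ofList, hfs, hrsI]
        exact Ideal.mem_map_of_mem _ hz
      obtain ⟨y, hy, hyz⟩ := (Ideal.mem_map_iff_of_surjective _ Ideal.Quotient.mk_surjective).1 h1
      have hd : z - y ∈ I ⊓ J := ⟨sub_mem hz (hle hy), Ideal.Quotient.eq.1 hyz.symm⟩
      have hd2 := LocalFlat.SmulTop.mem_smul_ker_of_flat (R := A) (M := C) (N := B)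
        (u := (IsScalarTower.toAlgHom A B C).toLinearMap) hs (maximalIdeal A) (x := z - y)
        (show algebraMap B C (z - y) = 0 from hd.1) (by
          rw [Ideal.smul_top_eq_map]
          exact hd.2)
      have hd3 := Submodule.mem_map_of_mem (f := (LinearMap.ker (IsScalarTower.toAlgHom A B C).toLinearMap).subtype) hd2
      rw [Submodule.map_smul'', Submodule.map_subtype_top] at hd3
      replace hd3 : z - y ∈ maximalIdeal A • LinearMap.ker (IsScalarTower.toAlgHom A B C).toLinearMap := hd3
      refine Submodule.mem_sup.2 ⟨y, hy, z - y, ?_, add_sub_cancel y z⟩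
      refine Submodule.smul_induction_on (p := fun v => v ∈ maximalIdeal B • I) hd3
        (fun a ha w hw => ?_) (fun a b ha hb => add_mem ha hb)
      show a • w ∈ maximalIdeal B * I
      rw [Algebra.smul_def]
      exact Ideal.mul_mem_mul (IsLocalRing.map_maximalIdeal_le (algebraMap A B) (Ideal.mem_map_of_mem _ ha))
        (show algebraMap B C w = 0 from hw)
    refine ⟨fs, ⟨LCFin.FibreDepth.isWeaklyRegular_of_fibre (A := A) fs B ?_, ?_⟩, hgen.symm⟩
    · have h1 := (isWeaklyRegular_map_algebraMap_iff (B ⧸ J) (B ⧸ J) fs).1 (by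
        rw [show (algebraMap B (B ⧸ J) : B → B ⧸ J) = Ideal.Quotient.mk J from rfl, hfs]
        exact hrs.1)
      refine (LinearEquiv.isWeaklyRegular_congr ?_ fs).1 h1
      exact Submodule.quotEquivOfEq _ _ (by
        show J = _
        simp [J, Ideal.mul_top])
    · rw [smul_eq_mul, Ideal.mul_top, ← hgen]
      exact (RingHom.ker_ne_top _).symm
  · rintro ⟨rs, hrs, hrsI⟩
    rw [formallySmooth_iff_of_cover A B C hs P hπ]
    intro x hx hx'
    choose g hg using hπ
    let gs := rs.map g
    have hgs : gs.map (algebraMap P B) = rs := by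
      simp only [gs, List.map_map]
      exact List.map_id'' (fun r => hg r) rs
    have hsup : RingHom.ker (algebraMap P C) = RingHom.ker (algebraMap P B) ⊔ Ideal.ofList gs := by
      rw [IsScalarTower.algebraMap_eq P B C, ← RingHom.comap_ker, ← hrsI, ← hgs, ← Ideal.map_ofList,
        Ideal.comap_map_of_surjective (algebraMap P B) (fun b => ⟨g b, hg b⟩), sup_comm]
      rfl
    have hgm : Ideal.ofList gs ≤ maximalIdeal P :=
      (le_sup_right.trans hsup.ge).trans (le_maximalIdeal (RingHom.ker_ne_top _))
    rw [hsup, Ideal.mul_sup] at hx'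
    obtain ⟨y, hy, z, hz, rfl⟩ := Submodule.mem_sup.1 hx'
    refine add_mem hy ?_
    have hzJ : z ∈ RingHom.ker (algebraMap P B) :=
      (Submodule.add_mem_iff_right (RingHom.ker (algebraMap P B)) (Ideal.mul_le_right hy)).1 hx
    have := mem_mul_of_regular (algebraMap P B) (fun b => ⟨g b, hg b⟩) gs (by rw [hgs]; exact hrs.1)
      ⟨hzJ, Ideal.mul_le_right hz⟩
    rw [mul_comm]
    exact Ideal.mul_mono_right hgm this

end Groth.Agent.Lib.NestedSmooth.Local
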